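import Groth.Agent.S0427
import Groth.Agent.S0537
import Groth.Agent.S0539
import Groth.Agent.S0736
import Groth.Agent.S12237
import Groth.Agent.S1996
import Groth.Agent.S7127
import Groth.Agent.Hensel.HenselizationProps
import Groth.Agent.Hensel.Henselization
import Mathlib.FieldTheory.IsSepClosed
import Mathlib.RingTheory.Etale.Weakly

/-! weakly etale local maps and strict henselizations -/

set_option autoImplicit false
set_option linter.style.haveILetI false

universe u

open IsLocalRing

namespace Groth.Agent.WEStrict

theorem isStrictHenselization_of_algEquiv {A S S' : Type u} [CommRing A] [IsLocalRing A] [CommRing S] [IsLocalRing S]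
    [CommRing S'] [IsLocalRing S'] [Algebra A S] [Algebra A S'] [IsLocalHom (algebraMap A S)] [IsLocalHom (algebraMap A S')]
    (e : S ≃ₐ[A] S') [hS : Hensel.IsStrictHenselization A S] : Hensel.IsStrictHenselization A S' := by
  haveI := hS.henselian
  let ε : ResidueField S ≃+* ResidueField S' := ResidueField.mapEquiv e.toRingEquiv
  have hε : ∀ r, ε (algebraMap (ResidueField A) (ResidueField S) r) = algebraMap (ResidueField A) (ResidueField S') r := fun r => by
    obtain ⟨a, rfl⟩ := residue_surjective r
    show residue S' (e (algebraMap A S a)) = residue S' (algebraMap A S' a)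
    rw [e.commutes]
  let εA : ResidueField S ≃ₐ[ResidueField A] ResidueField S' := AlgEquiv.ofRingEquiv (f := ε) hε
  haveI := hS.isSepClosure.sep_closed
  haveI := hS.isSepClosure.separable
  refine ⟨Groth.Agent.Hensel.henselianLocalRing_of_ringEquiv e.toRingEquiv,
    ⟨Groth.Agent.Hensel.isSepClosed_of_ringEquiv ε, Algebra.IsSeparable.of_algHom _ _ εA.symm.toAlgHom⟩, ?_⟩
  intro T _ _ f _ τ hτ
  have hτ' : (τ.comp ε.toRingHom).comp (ResidueField.map (algebraMap A S)) = ResidueField.map f := by
    rw [← hτ]
    ext r
    exact congrArg τ (hε _)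
  obtain ⟨g, ⟨hg1, hg2⟩, huniq⟩ := hS.universal T f (τ.comp ε.toRingHom) hτ'
  refine ⟨g.comp e.symm.toRingHom, ⟨?_, fun x => ?_⟩, fun g' ⟨h1, h2⟩ => ?_⟩
  · ext a
    show g (e.symm (algebraMap A S' a)) = f a
    rw [e.symm.commutes]
    exact RingHom.congr_fun hg1 a
  · show residue T (g (e.symm x)) = τ (residue S' x)
    rw [hg2]
    show τ (residue S' (e (e.symm x))) = _
    rw [e.apply_symm_apply]
  · have h := huniq (g'.comp e.toRingHom) ⟨by
      ext a
      show g' (e (algebraMap A S a)) = f a
      rw [e.commutes]
      exact RingHom.congr_fun h1 a, fun x => h2 (e x)⟩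
    rw [← h]
    ext x
    exact congrArg g' (e.apply_symm_apply x).symm

theorem isStrictHenselization_comp (A B S : Type u) [CommRing A] [IsLocalRing A] [CommRing B] [IsLocalRing B]
    [CommRing S] [IsLocalRing S] [Algebra A B] [IsLocalHom (algebraMap A B)] [Algebra B S] [IsLocalHom (algebraMap B S)]
    [Algebra A S] [IsScalarTower A B S] [IsLocalHom (algebraMap A S)] [Algebra.WeaklyEtale A B]
    [hS : Hensel.IsStrictHenselization B S] : Hensel.IsStrictHenselization A S := by
  haveI := hS.henselian
  haveI := hS.isSepClosure.sep_closed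
  haveI : Algebra.WeaklyEtale B S := Groth.Agent.S0736.result _ _ (Groth.Agent.S12237.result B S)
  haveI : Algebra.WeaklyEtale A S := Algebra.WeaklyEtale.trans A B S
  obtain ⟨Ash, _, _, _, _, hAsh⟩ := Groth.Agent.S0537.result A
  haveI := hAsh.henselian
  haveI := hAsh.isSepClosure.sep_closed
  haveI := hAsh.isSepClosure.separable
  let τ : ResidueField Ash →ₐ[ResidueField A] ResidueField S := IsSepClosed.lift
  obtain ⟨g, ⟨hg1, hg2⟩, -⟩ := hAsh.universal S (algebraMap A S) τ.toRingHom τ.comp_algebraMap
  haveI : IsLocalHom g := ⟨fun x hx => by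
    by_contra hx'
    have h0 : residue Ash x = 0 := (residue_eq_zero_iff x).2 hx'
    have := hg2 x
    rw [h0, map_zero, residue_eq_zero_iff] at this
    exact this hx⟩
  haveI : Algebra.WeaklyEtale A Ash := Groth.Agent.S0736.result _ _ (Groth.Agent.S12237.result A Ash)
  letI : Algebra Ash S := g.toAlgebra
  haveI : IsScalarTower A Ash S := IsScalarTower.of_algebraMap_eq' hg1.symm
  haveI : Algebra.WeaklyEtale Ash S := Groth.Agent.S7127.result A Ash S
  haveI : IsLocalHom (algebraMap Ash S) := ‹IsLocalHom g›
  have hb := Groth.Agent.S0427.result (A := Ash) (B := S)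
  exact isStrictHenselization_of_algEquiv (AlgEquiv.ofBijective (IsScalarTower.toAlgHom A Ash S) hb)

theorem weaklyEtale_of_isStrictHenselization (A B S : Type u) [CommRing A] [IsLocalRing A] [CommRing B] [IsLocalRing B]
    [CommRing S] [IsLocalRing S] [Algebra A B] [Algebra B S] [IsLocalHom (algebraMap B S)]
    [Algebra A S] [IsScalarTower A B S] [IsLocalHom (algebraMap A S)]
    [Hensel.IsStrictHenselization B S] [Hensel.IsStrictHenselization A S] : Algebra.WeaklyEtale A B := by
  haveI : Algebra.WeaklyEtale A S := Groth.Agent.S0736.result _ _ (Groth.Agent.S12237.result A S)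
  haveI : Module.FaithfullyFlat B S := Groth.Agent.S0539.result B S
  exact Groth.Agent.S1996.result A B S

end Groth.Agent.WEStrict
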